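import Groth.Agent.RegLocal.Consequences
/-!
Projective dimension and supports of Ext into the ring over a regular local ring.
-/

set_option autoImplicit false
universe u

namespace Groth.Agent.RegExtSupp

open CategoryTheory Abelian IsLocalRing

variable (A : Type u) [CommRing A] [IsRegularLocalRing A] (M : Type u) [AddCommGroup M] [Module A M]
  [Module.Finite A M]

theorem projDim_le_iff (q : ℕ) :
    HasProjectiveDimensionLT (ModuleCat.of A M) (q + 1) ↔
      ∀ i : ℕ, q < i → Subsingleton (Ext (ModuleCat.of A M) (ModuleCat.of A A) i) := by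
  refine ⟨fun h i hi => ⟨fun a b => ?_⟩, fun h => ?_⟩
  · exact (Ext.eq_zero_of_hasProjectiveDimensionLT a (q + 1) hi).trans
      (Ext.eq_zero_of_hasProjectiveDimensionLT b (q + 1) hi).symm
  · obtain ⟨n, hn⟩ := RegLocal.exists_nat_ringKrullDim A
    exact RegLocal.projDimLT_of_ext_vanish A M n hn q fun j hj _ => h j hj

theorem dim_quotient_add_le (i : ℕ) (p : Ideal A) [p.IsPrime]
    (h : Nontrivial (Ext
      (ModuleCat.of (Localization.AtPrime p) (LocalizedModule p.primeCompl M))
      (ModuleCat.of (Localization.AtPrime p) (Localization.AtPrime p)) i)) :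
    ringKrullDim (A ⧸ p) + (i : WithBot ℕ∞) ≤ ringKrullDim A := by
  haveI := RegLocal.isRegularLocalRing_localization A p
  obtain ⟨d, hd⟩ := RegLocal.exists_nat_ringKrullDim (Localization.AtPrime p)
  have hid : i ≤ d := by
    by_contra hc
    haveI := RegLocal.hasProjectiveDimensionLT (Localization.AtPrime p) d hd
      (ModuleCat.of _ (LocalizedModule p.primeCompl M))
    obtain ⟨a, b, hab⟩ := h
    exact hab ((Ext.eq_zero_of_hasProjectiveDimensionLT a (d + 1) (Nat.lt_of_not_le hc)).trans
      (Ext.eq_zero_of_hasProjectiveDimensionLT b (d + 1) (Nat.lt_of_not_le hc)).symm)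
  let x : PrimeSpectrum A := ⟨p, inferInstance⟩
  have hh : (Order.height x : WithBot ℕ∞) = d := by
    rw [← hd, IsLocalization.AtPrime.ringKrullDim_eq_height p, ← PrimeSpectrum.height_eq_orderHeight x]
  have hco : ringKrullDim (A ⧸ p) = (Order.coheight x : WithBot ℕ∞) := by
    rw [ringKrullDim_quotient, Order.coheight_eq_krullDim_Ici]
    congr 1
  have key : ((Order.height x + Order.coheight x : ℕ∞) : WithBot ℕ∞) ≤ ringKrullDim A := by
    rw [ringKrullDim, Order.krullDim_eq_iSup_height_add_coheight_of_nonempty]
    exact WithBot.coe_le_coe.2 (le_iSup (fun a => Order.height a + Order.coheight a) x)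
  refine le_trans ?_ key
  rw [hco, WithBot.coe_add, hh, add_comm]
  exact add_le_add_left (by exact_mod_cast hid) _

end Groth.Agent.RegExtSupp
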